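import Groth.Agent.Pic13Lib.HypSeq
import Groth.Agent.HilbPoly.HNChain
import Groth.Agent.Lib.CohGrowth
import Groth.Agent.Snapper.DimVanish
import Groth.Agent.Lib.Euler

/-!
# The top cohomology of a coherent module on projective space
-/

set_option autoImplicit false
set_option linter.style.haveILetI false
set_option linter.unusedSectionVars false
set_option backward.isDefEq.respectTransparency false
set_option backward.isDefEq.respectTransparency.types false
set_option maxHeartbeats 1000000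

universe u

open CategoryTheory CategoryTheory.Limits AlgebraicGeometry TopologicalSpace Opposite
open Groth.Agent.H23 Groth.Agent.H23.PicMul

attribute [local instance] PicMul.clMonoid

noncomputable section

namespace Groth.Agent.TopCohPn

open Groth.Agent

variable {k : Type u} [Field k] {n : ℕ}

local notation "P" => CohB1.ProjSpace n k

/-- The dimension of the cohomology of a twist. -/
def hdim (F : (CohB1.ProjSpace n k).Modules) (d : ℤ) (i : ℕ) : ℕ :=
  Module.finrank k (Coh.HH P (Pic13.twistOn k (𝟙 P) F d) i)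

theorem finrank_congr_cl {A B : (CohB1.ProjSpace n k).Modules} (h : PicF.cl A = PicF.cl B) (i : ℕ) :
    Module.finrank k (Coh.HH P A i) = Module.finrank k (Coh.HH P B i) := by
  obtain ⟨e⟩ := cl_eq_iff.1 h
  exact (RegDescent.HHequiv (k := k) e i).finrank_eq

/-- The cohomology in degree `i` of negative twists grows at most like the `i`-th power. -/
theorem exists_bound [Infinite k] [IsProper (CohB1.ProjSpace n k ↘ Spec (CommRingCat.of k))] :
    ∀ (i : ℕ) (F : (CohB1.ProjSpace n k).Modules), Coh.IsCoh F →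
      ∃ C : ℕ, ∀ m : ℕ, hdim F (-(m : ℤ)) i ≤ C * (m + 1) ^ i := by
  intro i
  induction i with
  | zero =>
    intro F hF
    obtain ⟨G, hG, -, hS⟩ := Pic13Lib.exists_hyp (𝟙 P) hF
    refine ⟨hdim F 0 0, fun m => ?_⟩
    rw [pow_zero, mul_one]
    induction m with
    | zero => simp
    | succ m ihm =>
      refine le_trans ?_ ihm
      obtain ⟨S, hS, h1, h2, h3, e1, e2, e3⟩ := hS _ (Pic13Lib.isInvertible_tw (𝟙 P) (-(m : ℤ)))
      have a1 : hdim F (-((m + 1 : ℕ) : ℤ)) 0 = Module.finrank k (Coh.HH P S.X₁ 0) := by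
        refine finrank_congr_cl ?_ 0
        rw [e1, Pic13Lib.cl_twistOn, ← Pic13Lib.tw_eq, mul_assoc, ← Pic13Lib.tw_add]
        congr 2
        push_cast; ring
      have a2 : hdim F (-(m : ℤ)) 0 = Module.finrank k (Coh.HH P S.X₂ 0) := by
        refine finrank_congr_cl ?_ 0
        rw [e2, Pic13Lib.cl_twistOn, ← Pic13Lib.tw_eq]
      rw [a1, a2]
      haveI := S0002.result k P S.X₂ h2 0
      exact LinearMap.finrank_le_finrank_of_injective (f := PnCoh.Finite.mapLin k S.f 0)
        (LinearMap.ker_eq_bot.1 (Euler.ker_mapLin_f_zero k hS))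
  | succ i ih =>
    intro F hF
    obtain ⟨G, hG, -, hS⟩ := Pic13Lib.exists_hyp (𝟙 P) hF
    obtain ⟨C, hC⟩ := ih G hG
    refine ⟨hdim F 0 (i + 1) + C, fun m => ?_⟩
    induction m with
    | zero => simp
    | succ m ihm =>
      obtain ⟨S, hS, h1, h2, h3, e1, e2, e3⟩ := hS _ (Pic13Lib.isInvertible_tw (𝟙 P) (-(m : ℤ)))
      have a1 : hdim F (-((m + 1 : ℕ) : ℤ)) (i + 1) = Module.finrank k (Coh.HH P S.X₁ (i + 1)) := by
        refine finrank_congr_cl ?_ _
        rw [e1, Pic13Lib.cl_twistOn, ← Pic13Lib.tw_eq, mul_assoc, ← Pic13Lib.tw_add]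
        congr 2
        push_cast; ring
      have a2 : hdim F (-(m : ℤ)) (i + 1) = Module.finrank k (Coh.HH P S.X₂ (i + 1)) := by
        refine finrank_congr_cl ?_ _
        rw [e2, Pic13Lib.cl_twistOn, ← Pic13Lib.tw_eq]
      have a3 : hdim G (-(m : ℤ)) i = Module.finrank k (Coh.HH P S.X₃ i) := by
        refine finrank_congr_cl ?_ _
        rw [e3, Pic13Lib.cl_twistOn, ← Pic13Lib.tw_eq]
      have hle := CohGrowth.finrank_left_le k hS h1 h2 h3 (i + 1)
      rw [Nat.add_sub_cancel, ← a1, ← a2, ← a3] at hle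
      refine hle.trans ((Nat.add_le_add ihm (hC m)).trans ?_)
      have h3 : (m + 1) ^ (i + 1) + (m + 1) ^ i ≤ (m + 1 + 1) ^ (i + 1) := by
        calc (m + 1) ^ (i + 1) + (m + 1) ^ i = (m + 1) ^ i * (m + 1 + 1) := by ring
          _ ≤ (m + 1 + 1) ^ i * (m + 1 + 1) := Nat.mul_le_mul_right _ (Nat.pow_le_pow_left (Nat.le_succ _) i)
          _ = _ := (pow_succ _ _).symm
      calc (hdim F 0 (i + 1) + C) * (m + 1) ^ (i + 1) + C * (m + 1) ^ i
          ≤ (hdim F 0 (i + 1) + C) * (m + 1) ^ (i + 1) + (hdim F 0 (i + 1) + C) * (m + 1) ^ i :=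
            Nat.add_le_add_left (Nat.mul_le_mul_right _ (Nat.le_add_left _ _)) _
        _ = (hdim F 0 (i + 1) + C) * ((m + 1) ^ (i + 1) + (m + 1) ^ i) := (Nat.mul_add _ _ _).symm
        _ ≤ _ := Nat.mul_le_mul_left _ h3

open Polynomial in
/-- A polynomial of degree at most `a` with positive `a`-th coefficient is not `O(m^(a-1))` at minus infinity. -/
theorem not_bounded {a : ℕ} (ha : 1 ≤ a) {Q : ℚ[X]} (hd : Q.natDegree ≤ a) (hc : 0 < Q.coeff a) (C : ℚ) :
    ∃ m : ℕ, C * ((m : ℚ) + 1) ^ (a - 1) < |Q.eval (-(m : ℚ))| := by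
  obtain ⟨a, rfl⟩ : ∃ b, a = b + 1 := ⟨a - 1, by omega⟩
  let S : ℚ := ∑ j ∈ Finset.range (a + 1), |Q.coeff j|
  obtain ⟨N, hN⟩ := exists_nat_gt ((|C| * 2 ^ a + S) / Q.coeff (a + 1))
  refine ⟨N + 1, ?_⟩
  set x : ℚ := ((N + 1 : ℕ) : ℚ) with hx
  have hx1 : (1 : ℚ) ≤ x := by rw [hx]; push_cast; linarith [(Nat.cast_nonneg N : (0 : ℚ) ≤ N)]
  have hev : Q.eval (-x) = (∑ j ∈ Finset.range (a + 1), Q.coeff j * (-x) ^ j) + Q.coeff (a + 1) * (-x) ^ (a + 1) := by
    rw [eval_eq_sum_range' (n := a + 2) (by omega), Finset.sum_range_succ]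
  have hsum : |∑ j ∈ Finset.range (a + 1), Q.coeff j * (-x) ^ j| ≤ S * x ^ a := by
    refine (Finset.abs_sum_le_sum_abs _ _).trans ?_
    rw [Finset.sum_mul]
    refine Finset.sum_le_sum fun j hj => ?_
    rw [abs_mul, abs_pow, abs_neg, abs_of_nonneg (zero_le_one.trans hx1)]
    exact mul_le_mul_of_nonneg_left (pow_le_pow_right₀ hx1 (Nat.lt_succ_iff.1 (Finset.mem_range.1 hj))) (abs_nonneg _)
  have htop : |Q.coeff (a + 1) * (-x) ^ (a + 1)| = Q.coeff (a + 1) * x * x ^ a := by
    rw [abs_mul, abs_pow, abs_neg, abs_of_pos hc, abs_of_nonneg (zero_le_one.trans hx1), pow_succ]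
    ring
  have hlow : Q.coeff (a + 1) * x * x ^ a - S * x ^ a ≤ |Q.eval (-x)| := by
    rw [hev, ← htop]
    have := abs_sub_abs_le_abs_sub (Q.coeff (a + 1) * (-x) ^ (a + 1)) (-∑ j ∈ Finset.range (a + 1), Q.coeff j * (-x) ^ j)
    rw [abs_neg, sub_neg_eq_add, add_comm (Q.coeff (a + 1) * _)] at this
    linarith
  have hbig : |C| * 2 ^ a + S < Q.coeff (a + 1) * x := by
    rw [div_lt_iff₀ hc] at hN
    rw [hx]
    push_cast
    nlinarith
  have hup : C * (x + 1) ^ a ≤ |C| * 2 ^ a * x ^ a := by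
    rw [mul_assoc, ← mul_pow]
    exact mul_le_mul (le_abs_self C) (pow_le_pow_left₀ (by linarith) (by linarith) a) (by positivity) (abs_nonneg _)
  have hxa : 0 < x ^ a := by positivity
  rw [Nat.add_sub_cancel]
  calc C * (x + 1) ^ a ≤ |C| * 2 ^ a * x ^ a := hup
    _ < Q.coeff (a + 1) * x * x ^ a - S * x ^ a := by nlinarith
    _ ≤ _ := hlow

/-- In the dimension of the support some twist has non-zero cohomology. -/
theorem exists_nontrivial_top [Infinite k] (G : (CohB1.ProjSpace n k).Modules) (hG : Coh.IsCoh G) {a : ℕ} (ha : 1 ≤ a)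
    (hdimG : topologicalKrullDim ↥(CohB1.support G) = a) :
    ∃ m : ℤ, Nontrivial (Coh.HH P (CohB1.tensorMod G (Twist.twistProjSpace n k m)) a) := by
  haveI : IsProper (CohB1.ProjSpace n k ↘ Spec (CommRingCat.of k)) := PnCoh.Chow.isProper_toSpec n _
  haveI hP : IsNoetherian (Proj (CohB1.polyGrading n k)) := Proj16.isNoetherian_proj _
  haveI : IsNoetherian (CohB1.ProjSpace n k) := hP
  haveI : (CohB1.ProjSpace n k).IsSeparated := AmpleVan.isSeparated_of_proper (A := k)
  by_contra! H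
  have hamp : CohB1.IsAmple (HilbPoly.onePn k n) := HilbPoly.isAmple_pullback_pn (𝟙 P)
  obtain ⟨Q, hQ, hQd, -⟩ := HilbPoly.exists_hilb (k := k) hamp.1 hG hdimG.le
  have hlead := HilbPoly.alpha_pos hamp hG hdimG hQ
  unfold StabCat.alpha at hlead
  have hc : 0 < Q.coeff a := pos_of_mul_pos_right hlead (by positivity)
  choose C hC using fun i => exists_bound (k := k) (n := n) i G hG
  obtain ⟨m, hm⟩ := not_bounded ha hQd hc (∑ i ∈ Finset.range a, (C i : ℚ))
  refine absurd hm (not_lt.2 ?_)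
  let T := CohB1.tensorMod G (Twist.twistProjSpace n k (-(m : ℤ)))
  have hT : Coh.IsCoh T := AmpleVan.isCoh_tensor hG (AmpleVan.isCoh_invertible
    (PnCoh.Finite.isInvertible_twist (ProjRegular.coords k n) ProjRegular.coords_mem ProjRegular.coords_cover _))
  have hvan : ∀ i, a ≤ i → Subsingleton (Coh.HH P T i) := by
    intro i hi
    rcases eq_or_lt_of_le hi with rfl | hlt
    · exact H _
    · refine Snapper.subsingleton_HH_of_dim_lt (a + 1) ⟨_, QCoh.isClosed_support_of_isFT hG.1 hG.2⟩ ?_ T hT.1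
        (HilbPoly.support_tensor_subset _ _) i hlt
      show topologicalKrullDim ↥(CohB1.support G) < _
      rw [hdimG]
      exact_mod_cast Nat.lt_succ_self a
  have hχ := HilbPoly.forall_int_of_isHilbPoly hG hdimG.le hQ (-(m : ℤ))
  push_cast at hχ
  rw [← hχ, show Curv2.euler k P T = _ from Euler.euler_eq_sum k T a hvan]
  push_cast
  refine (Finset.abs_sum_le_sum_abs _ _).trans ?_
  rw [Finset.sum_mul]
  refine Finset.sum_le_sum fun i hi => ?_
  rw [abs_mul, abs_pow, abs_neg, abs_one, one_pow, one_mul, Nat.abs_cast]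
  have e : Module.finrank k (Coh.HH P T i) = hdim G (-(m : ℤ)) i := by
    have e0 : ∀ L : (CohB1.ProjSpace n k).Modules,
        PicF.cl ((Scheme.Modules.pullback (𝟙 P)).obj L) = PicF.cl L := fun L =>
      cl_eq_iff.2 ⟨(Scheme.Modules.pullbackId P).app L⟩
    have e2 : PicF.cl T = PicF.cl (Pic13.twistOn k (𝟙 P) G (-(m : ℤ))) := by
      rw [Pic13Lib.cl_twistOn, Pic13Lib.tw_eq, e0]
      exact cl_tensor _ _
    exact finrank_congr_cl e2 i
  rw [e]
  calc ((hdim G (-(m : ℤ)) i : ℕ) : ℚ) ≤ ((C i * (m + 1) ^ i : ℕ) : ℚ) := by exact_mod_cast hC i m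
    _ ≤ _ := by
      push_cast
      exact mul_le_mul_of_nonneg_left (pow_le_pow_right₀ (by linarith [(Nat.cast_nonneg m : (0 : ℚ) ≤ m)])
        (by have := Finset.mem_range.1 hi; omega)) (Nat.cast_nonneg _)

end Groth.Agent.TopCohPn
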